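import Groth.Prelude.Def_DerLim
import Mathlib.CategoryTheory.Triangulated.Triangulated
import Mathlib.Order.Interval.Finset.Nat
import Mathlib.Algebra.BigOperators.Intervals

/-!
Homotopy colimits of cofinal subsequences.
-/

set_option autoImplicit false
universe v u

open CategoryTheory CategoryTheory.Limits CategoryTheory.Pretriangulated

namespace Groth.Agent.HocolimSub

variable {D : Type u} [Category.{v} D] [Preadditive D] (F : ℕ ⥤ D)
  [HasCoproduct (fun m : ℕ => F.obj m)]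

/-- The map of `F m` into the summand `k ≥ m`. -/
noncomputable def tm (m k : ℕ) : F.obj m ⟶ ∐ fun j : ℕ => F.obj j :=
  if h : m ≤ k then F.map (homOfLE h) ≫ Sigma.ι (fun j : ℕ => F.obj j) k else 0

lemma tm_of_le {m k : ℕ} (h : m ≤ k) :
    tm F m k = F.map (homOfLE h) ≫ Sigma.ι (fun j : ℕ => F.obj j) k :=
  dif_pos h

lemma tm_self (m : ℕ) : tm F m m = Sigma.ι (fun j : ℕ => F.obj j) m := by
  rw [tm_of_le F le_rfl, show homOfLE (le_refl m) = 𝟙 m from rfl, F.map_id, Category.id_comp]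

lemma map_tm {l m k : ℕ} (h : l ≤ m) (h' : m ≤ k) : F.map (homOfLE h) ≫ tm F m k = tm F l k := by
  rw [tm_of_le F h', tm_of_le F (h.trans h'), ← Category.assoc, ← F.map_comp, homOfLE_comp]

lemma sum_telescope {m b : ℕ} (h : m ≤ b) :
    ∑ k ∈ Finset.Ico m b, (tm F m k - tm F m (k + 1)) = tm F m m - tm F m b := by
  induction b, h using Nat.le_induction with
  | base => simp
  | succ b hb ih => rw [Finset.sum_Ico_succ_top hb, ih]; abel

lemma tm_one_sub_shift {m k : ℕ} (h : m ≤ k) :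
    tm F m k ≫ (𝟙 (∐ fun j : ℕ => F.obj j) -
      DerLim.shiftMap (fun j : ℕ => F.obj j) (fun j => F.map (homOfLE (Nat.le_succ j)))) =
      tm F m k - tm F m (k + 1) := by
  rw [Preadditive.comp_sub, Category.comp_id, tm_of_le F h, tm_of_le F (h.trans (Nat.le_succ k)),
    Category.assoc, DerLim.shiftMap, Sigma.ι_desc, ← Category.assoc, ← F.map_comp, homOfLE_comp]

variable {n : ℕ → ℕ} (hn : StrictMono n) [HasCoproduct (fun i : ℕ => F.obj (n i))]

/-- The first index of the subsequence above `m`. -/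
noncomputable def idx (m : ℕ) : ℕ := Nat.find (p := fun i => m ≤ n i) ⟨m, hn.le_apply⟩

lemma le_idx (m : ℕ) : m ≤ n (idx hn m) := Nat.find_spec (p := fun i => m ≤ n i) ⟨m, hn.le_apply⟩

lemma idx_le {m i : ℕ} (h : m ≤ n i) : idx hn m ≤ i := Nat.find_le h

lemma idx_self (i : ℕ) : idx hn (n i) = i :=
  le_antisymm (idx_le hn le_rfl) (hn.le_iff_le.1 (le_idx hn (n i)))

lemma idx_succ (m : ℕ) : idx hn (m + 1) = if m = n (idx hn m) then idx hn m + 1 else idx hn m := by
  have h := le_idx hn m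
  split_ifs with he
  · refine le_antisymm (idx_le hn ?_) ?_
    · have := hn (show idx hn m < idx hn m + 1 by omega)
      omega
    · by_contra hlt
      have := le_idx hn (m + 1)
      have := hn.monotone (show idx hn (m + 1) ≤ idx hn m by omega)
      omega
  · exact le_antisymm (idx_le hn (by omega)) (idx_le hn (by have := le_idx hn (m + 1); omega))

/-- The inclusion of the summands of the subsequence. -/
noncomputable def u : (∐ fun i : ℕ => F.obj (n i)) ⟶ ∐ fun m : ℕ => F.obj m :=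
  Sigma.desc fun i => tm F (n i) (n i)

/-- The companion of `u` on the relations. -/
noncomputable def v : (∐ fun i : ℕ => F.obj (n i)) ⟶ ∐ fun m : ℕ => F.obj m :=
  Sigma.desc fun i => ∑ k ∈ Finset.Ico (n i) (n (i + 1)), tm F (n i) k

/-- Push a summand to the first index of the subsequence above it. -/
noncomputable def u' : (∐ fun m : ℕ => F.obj m) ⟶ ∐ fun i : ℕ => F.obj (n i) :=
  Sigma.desc fun m => F.map (homOfLE (le_idx hn m)) ≫ Sigma.ι (fun i : ℕ => F.obj (n i)) (idx hn m)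

/-- The companion of `u'` on the relations. -/
noncomputable def v' : (∐ fun m : ℕ => F.obj m) ⟶ ∐ fun i : ℕ => F.obj (n i) :=
  Sigma.desc fun m => if h : m = n (idx hn m) then
    F.map (homOfLE h.le) ≫ Sigma.ι (fun i : ℕ => F.obj (n i)) (idx hn m) else 0

/-- The homotopy. -/
noncomputable def hh : (∐ fun m : ℕ => F.obj m) ⟶ ∐ fun m : ℕ => F.obj m :=
  Sigma.desc fun m => -∑ k ∈ Finset.Ico m (n (idx hn m)), tm F m k

local notation "oneSub" => (𝟙 (∐ fun j : ℕ => F.obj j) -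
  DerLim.shiftMap (fun j : ℕ => F.obj j) (fun j => F.map (homOfLE (Nat.le_succ j))))

local notation "oneSub'" => (𝟙 (∐ fun i : ℕ => F.obj (n i)) -
  DerLim.shiftMap (fun i : ℕ => F.obj (n i)) (fun i => F.map (homOfLE (hn.monotone (Nat.le_succ i)))))

lemma comm₁ : oneSub' ≫ u F = v F ≫ oneSub := by
  refine Sigma.hom_ext _ _ fun i => ?_
  rw [v, Sigma.ι_desc_assoc, Preadditive.sum_comp,
    Finset.sum_congr rfl fun k hk => tm_one_sub_shift F (Finset.mem_Ico.1 hk).1,
    sum_telescope F (hn.monotone (Nat.le_succ i))]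
  simp only [Preadditive.sub_comp, Preadditive.comp_sub, Category.id_comp, DerLim.shiftMap, Sigma.ι_desc_assoc,
    Category.assoc, u, Sigma.ι_desc]
  rw [map_tm F _ le_rfl]

lemma v'_ι_of_eq {m i : ℕ} (h : m = n i) :
    Sigma.ι (fun j : ℕ => F.obj j) m ≫ v' F hn =
      F.map (homOfLE h.le) ≫ Sigma.ι (fun i : ℕ => F.obj (n i)) i := by
  subst h
  rw [v', Sigma.ι_desc]
  have h0 : ∀ (j : ℕ) (h : j = i), (if h' : n i = n j then
      F.map (homOfLE h'.le) ≫ Sigma.ι (fun i : ℕ => F.obj (n i)) j else 0) =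
      F.map (homOfLE (le_refl (n i))) ≫ Sigma.ι (fun i : ℕ => F.obj (n i)) i := by
    rintro j rfl
    rw [dif_pos rfl]
  exact h0 _ (idx_self hn i)

lemma map_ι_congr {m i j : ℕ} (e : i = j) (h : m ≤ n i) :
    F.map (homOfLE h) ≫ Sigma.ι (fun i : ℕ => F.obj (n i)) i =
      F.map (homOfLE (e ▸ h)) ≫ Sigma.ι (fun i : ℕ => F.obj (n i)) j := by
  subst e; rfl

lemma comm₂ : oneSub ≫ u' F hn = v' F hn ≫ oneSub' := by
  refine Sigma.hom_ext _ _ fun m => ?_
  have hL : Sigma.ι (fun j : ℕ => F.obj j) m ≫ oneSub ≫ u' F hn =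
      F.map (homOfLE (le_idx hn m)) ≫ Sigma.ι (fun i : ℕ => F.obj (n i)) (idx hn m) -
        F.map (homOfLE ((Nat.le_succ m).trans (le_idx hn (m + 1)))) ≫
          Sigma.ι (fun i : ℕ => F.obj (n i)) (idx hn (m + 1)) := by
    simp only [Preadditive.sub_comp, Preadditive.comp_sub, Category.id_comp, DerLim.shiftMap, Sigma.ι_desc_assoc,
      Category.assoc, u', Sigma.ι_desc]
    rw [← Category.assoc (F.map _) (F.map _), ← F.map_comp, homOfLE_comp]
  rw [hL]
  by_cases he : m = n (idx hn m)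
  · rw [← Category.assoc, v'_ι_of_eq F hn he, Category.assoc, map_ι_congr F ((idx_succ hn m).trans (if_pos he))]
    simp only [Preadditive.comp_sub, Category.comp_id, DerLim.shiftMap, Sigma.ι_desc]
    rw [← Category.assoc (F.map _) (F.map _), ← F.map_comp, homOfLE_comp]
  · rw [← Category.assoc, v', Sigma.ι_desc, dif_neg he, zero_comp,
      map_ι_congr F ((idx_succ hn m).trans (if_neg he)), sub_self]

lemma u_u' : u F ≫ u' F hn = 𝟙 (∐ fun i : ℕ => F.obj (n i)) := by
  refine Sigma.hom_ext _ _ fun i => ?_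
  rw [u, Sigma.ι_desc_assoc, tm_self, u', Sigma.ι_desc, map_ι_congr F (idx_self hn i), Category.comp_id,
    show homOfLE (le_refl (n i)) = 𝟙 (n i) from rfl, F.map_id, Category.id_comp]

lemma v_v' : v F ≫ v' F hn = 𝟙 (∐ fun i : ℕ => F.obj (n i)) := by
  refine Sigma.hom_ext _ _ fun i => ?_
  rw [v, Sigma.ι_desc_assoc, Preadditive.sum_comp, Category.comp_id, Finset.sum_eq_single (n i)]
  · rw [tm_self, v'_ι_of_eq F hn rfl, show homOfLE (le_refl (n i)) = 𝟙 (n i) from rfl, F.map_id, Category.id_comp]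
  · intro k hk hne
    rw [tm_of_le F (Finset.mem_Ico.1 hk).1, Category.assoc, v', Sigma.ι_desc, dif_neg, comp_zero]
    intro he
    have hk' := Finset.mem_Ico.1 hk
    have h1 : idx hn k ≤ i + 1 := idx_le hn hk'.2.le
    rcases Nat.lt_or_ge (idx hn k) (i + 1) with h2 | h2
    · have := hn.monotone (show idx hn k ≤ i by omega)
      omega
    · rw [show idx hn k = i + 1 by omega] at he
      omega
  · intro h
    exact absurd (Finset.mem_Ico.2 ⟨le_rfl, hn (Nat.lt_succ_self i)⟩) h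

lemma homotopy₁ : u' F hn ≫ u F - 𝟙 (∐ fun j : ℕ => F.obj j) = hh F hn ≫ oneSub := by
  refine Sigma.hom_ext _ _ fun m => ?_
  rw [hh, Sigma.ι_desc_assoc, Preadditive.neg_comp, Preadditive.sum_comp,
    Finset.sum_congr rfl fun k hk => tm_one_sub_shift F (Finset.mem_Ico.1 hk).1, sum_telescope F (le_idx hn m),
    neg_sub, Preadditive.comp_sub, Category.comp_id, u', Sigma.ι_desc_assoc, tm_self, Category.assoc, u,
    Sigma.ι_desc, map_tm F _ le_rfl]

lemma homotopy₂ : v' F hn ≫ v F - 𝟙 (∐ fun j : ℕ => F.obj j) = oneSub ≫ hh F hn := by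
  refine Sigma.hom_ext _ _ fun m => ?_
  have hR : Sigma.ι (fun j : ℕ => F.obj j) m ≫ oneSub ≫ hh F hn =
      (-∑ k ∈ Finset.Ico m (n (idx hn m)), tm F m k) + ∑ k ∈ Finset.Ico (m + 1) (n (idx hn (m + 1))), tm F m k := by
    simp only [Preadditive.sub_comp, Preadditive.comp_sub, Category.id_comp, DerLim.shiftMap, Sigma.ι_desc_assoc,
      Category.assoc, hh, Sigma.ι_desc, Preadditive.comp_neg, Preadditive.comp_sum, sub_neg_eq_add]
    congr 1
    exact Finset.sum_congr rfl fun k hk => map_tm F _ (Finset.mem_Ico.1 hk).1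
  rw [hR, Preadditive.comp_sub, Category.comp_id]
  by_cases he : m = n (idx hn m)
  · rw [idx_succ hn m, if_pos he, ← Category.assoc, v'_ι_of_eq F hn he, Category.assoc, v, Sigma.ι_desc,
      Preadditive.comp_sum, show Finset.Ico m (n (idx hn m)) = ∅ from Finset.Ico_eq_empty (by omega),
      Finset.sum_empty, neg_zero, zero_add]
    rw [Finset.sum_congr rfl fun k hk => map_tm F _ (Finset.mem_Ico.1 hk).1, ← tm_self,
      show Finset.Ico (n (idx hn m)) (n (idx hn m + 1)) = Finset.Ico m (n (idx hn m + 1)) by rw [← he],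
      Finset.sum_eq_sum_Ico_succ_bot (by have := hn (show idx hn m < idx hn m + 1 by omega); omega), add_sub_cancel_left]
  · rw [idx_succ hn m, if_neg he, ← Category.assoc, v', Sigma.ι_desc, dif_neg he, zero_comp, zero_sub,
      Finset.sum_eq_sum_Ico_succ_bot (by have := le_idx hn m; omega), ← tm_self]
    abel

variable [HasZeroObject D] [HasShift D ℤ] [∀ n : ℤ, (shiftFunctor D n).Additive] [Pretriangulated D]

lemma isIso_of_homotopic {T : Triangle D} (hT : T ∈ distTriang D) (e : T ⟶ T) (h : T.obj₂ ⟶ T.obj₁)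
    (h₁ : e.hom₁ - 𝟙 _ = T.mor₁ ≫ h) (h₂ : e.hom₂ - 𝟙 _ = h ≫ T.mor₁) : IsIso e.hom₃ := by
  let x := e.hom₃ - 𝟙 T.obj₃
  have hp : T.mor₂ ≫ x = 0 := by
    have := congrArg (· ≫ T.mor₂) h₂
    simp only [Preadditive.sub_comp, Category.id_comp, Category.assoc,
      comp_distTriang_mor_zero₁₂ _ hT, comp_zero, ← e.comm₂] at this
    simpa [x, Preadditive.comp_sub] using this
  have hc : x ≫ T.mor₃ = 0 := by
    have := congrArg (fun z => T.mor₃ ≫ z⟦(1 : ℤ)⟧') h₁
    simp only [Functor.map_sub, Functor.map_id, Functor.map_comp, Preadditive.comp_sub, Category.comp_id,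
      e.comm₃, comp_distTriang_mor_zero₃₁_assoc _ hT, zero_comp] at this
    simpa [x, Preadditive.sub_comp] using this
  obtain ⟨y, hy⟩ := Triangle.coyoneda_exact₃ _ hT x hc
  have hxx : x ≫ x = 0 := by
    conv_lhs => arg 1; rw [hy]
    rw [Category.assoc, hp, comp_zero]
  have he : e.hom₃ = 𝟙 _ + x := (add_sub_cancel _ _).symm
  rw [he]
  refine ⟨𝟙 _ - x, ?_, ?_⟩ <;>
    simp [Preadditive.add_comp, Preadditive.comp_add, Preadditive.sub_comp, Preadditive.comp_sub, hxx]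

include hn in
theorem exists_iso (L : D) (ι : ∀ m : ℕ, F.obj m ⟶ L)
    (hL : DerLim.IsHocolim (fun m : ℕ => F.obj m) (fun m : ℕ => F.map (homOfLE (Nat.le_succ m))) L ι)
    (L' : D) (ι' : ∀ i : ℕ, F.obj (n i) ⟶ L')
    (hL' : DerLim.IsHocolim (fun i : ℕ => F.obj (n i))
      (fun i : ℕ => F.map (homOfLE (hn.monotone (Nat.le_succ i)))) L' ι') :
    ∃ e : L' ≅ L, ∀ i : ℕ, ι' i ≫ e.hom = ι (n i) := by
  obtain ⟨c, hc⟩ := hL
  obtain ⟨c', hc'⟩ := hL'
  obtain ⟨φ, hφ₂, hφ₃⟩ := complete_distinguished_triangle_morphism _ _ hc' hc (v F) (u F) (comm₁ F hn)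
  obtain ⟨ψ, hψ₂, hψ₃⟩ := complete_distinguished_triangle_morphism _ _ hc hc' (v' F hn) (u' F hn) (comm₂ F hn)
  let Φ : Triangle.mk _ _ c' ⟶ Triangle.mk _ _ c := Triangle.homMk _ _ (v F) (u F) φ (comm₁ F hn) hφ₂ hφ₃
  let Ψ : Triangle.mk _ _ c ⟶ Triangle.mk _ _ c' := Triangle.homMk _ _ (v' F hn) (u' F hn) ψ (comm₂ F hn) hψ₂ hψ₃
  have h1 : IsIso (φ ≫ ψ) :=
    isIso_of_homotopic hc' (Φ ≫ Ψ) 0 ((sub_eq_zero.2 (v_v' F hn)).trans comp_zero.symm) ((sub_eq_zero.2 (u_u' F hn)).trans zero_comp.symm)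
  have h2 : IsIso (ψ ≫ φ) :=
    isIso_of_homotopic hc (Ψ ≫ Φ) (hh F hn) (homotopy₂ F hn) (homotopy₁ F hn)
  have hφ : IsIso φ := by
    haveI : Mono φ := mono_of_mono φ ψ
    haveI : IsSplitEpi φ := IsSplitEpi.mk' ⟨inv (ψ ≫ φ) ≫ ψ, by rw [Category.assoc, IsIso.inv_hom_id]⟩
    exact isIso_of_mono_of_isSplitEpi φ
  refine ⟨@asIso _ _ _ _ φ hφ, fun i => ?_⟩
  change ι' i ≫ φ = ι (n i)
  rw [← Sigma.ι_desc ι' i, Category.assoc, show Sigma.desc ι' ≫ φ = u F ≫ Sigma.desc ι from hφ₂, u]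
  refine (Category.assoc _ _ _).symm.trans ?_
  exact (congrArg (· ≫ Sigma.desc ι) ((Sigma.ι_desc _ i).trans (tm_self F (n i)))).trans (Sigma.ι_desc ι (n i))

end Groth.Agent.HocolimSub
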